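import Cfsg.Agent.Mrg.Omega.OM.SwapV.Lv.Frame
import Cfsg.Agent.Mrg.Omega.OM.SwapL.Main
import Cfsg.Agent.Mrg.Omega.EK3.Q.Loc
import Cfsg.Agent.Mrg.Omega.VP
import Cfsg.Agent.Mrg.Omega.OM.SwapV.Torus.Uni
import Cfsg.Agent.Mrg.Omega.OM.Lev.Low.TorusK.Frame
import Cfsg.Agent.Mrg.Omega.OM.Lev.Low.TorusK.Chi
import Cfsg.Agent.Mrg.Omega.OM.Lev.Low.TorusK.SplitOne

section


/-!
# TORUS over an abstract module `V` (box R), `q = 2`: the local inputs of the frame (helper630 / helper662)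

Port of `OM/Lev/Low/TorusK/LocIn.lean` and `OM/Lev/Low/Full.lean` to `h : Lv.LnV S V Q n L W Z C A` (no `Bg`, `S` not
transitive on the blocks).

* `V_le_iSup`, `C_eq`, `perm'`, `C_cj`, `C_cj'` : `V = ⨆ W i`, `C i = ⨆ (j ≠ i), W j`, `N_G(B)` permutes `(W i, Z i, C i)`;
* `nS`, `zS` : `N_G(B)`, `S` centralise the elements of full support of `Z_J`;
* `wt` : **(W)** : `z, g z g⁻¹ ∈ Z_J`, `z` of full support `⟹` `g z g⁻¹` of full support;
* `full_unique`, `exists_full`, `exists_z` : the element of full support is unique, exists and lies in `Ω₁Z(S)`;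
* `syl` : `B` is a Sylow 2-subgroup of `C_G(Z p : p ≠ l)`;
* `o2CI_le_B`, `loc1`, `loc2` : `E = Ω₁Z(O₂(C_G(Z p : p ≠ l, m)))` is elementary abelian, `Z_J ≤ E ≤ B`;
* `fact`, `fact'`, `fact_zc`, `fact_full` : a local `H ≥ S` is generated by `N_H(Ω₁Z(lev S j))` and `C_H(x)`, for every `x ∈ Ω₁Z(S)`.
-/

set_option autoImplicit false
set_option linter.unusedSectionVars false

namespace Cfsg.Agent.Omega.OM.SwapV.TorusV.LocL

open Subgroup Cfsg Cfsg.Agent.ZN.ChoiceBase Cfsg.Agent.ZN.ChoiceSit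
open Cfsg.Agent.ZN (jj zj bau zc zl o2)
open Cfsg.Agent.Omega.MinPar (IsLoc IsPar IsParS)
open Cfsg.Agent.Omega.OM.Lev.Uni (FrL)
open Cfsg.Agent.Omega.OM.SwapL (ZL BL lb wc nb mem_C_iff)
open Cfsg.Agent.Omega.OM.SwapV.Lv (LnV)
open Cfsg.Agent.Omega.NO3S.Level (lev lev_mono lev_isLev lev_le)
open Cfsg.Agent.Omega.OM.Lev.Low.Line (Full Tr mc)
open Cfsg.Agent.Omega.EK3.Q.Loc (YI CI mem_YI mem_CI YI_le_left YI_le_right)

universe u

/-! ### The frame `FrL` -/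

section frl

variable {G : Type u} [Group G] {ι : Type} {B Q V X ZJ : Subgroup G} {L W Z C A : ι → Subgroup G} {q : ℕ}

/-- `W`-components: `v ∈ V` is a product of elements of the `W j`, `j ∈ s`, modulo the intersection of the `C j`. -/
theorem comp [Finite ι] (h : FrL B Q V X ZJ L W Z C A q) (p : ι → Prop) {v : G} (hv : v ∈ V) :
    ∃ w ∈ (⨆ j : {j : ι // p j}, W j), w ∈ V ∧ ∀ i, p i → w⁻¹ * v ∈ C i := by
  classical
  have := Fintype.ofFinite ι
  have key : ∀ s : Finset ι, (∀ i ∈ s, p i) → ∃ w ∈ (⨆ j : {j : ι // p j}, W j), w ∈ V ∧ ∀ i ∈ s, w⁻¹ * v ∈ C i := by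
    intro s
    induction s using Finset.induction_on with
    | empty => exact fun _ => ⟨1, one_mem _, one_mem _, fun i hi => by simp at hi⟩
    | insert j s hj ih =>
      intro hs
      obtain ⟨w, hw, hwV, hwC⟩ := ih fun i hi => hs i (Finset.mem_insert_of_mem hi)
      obtain ⟨a, ha, c, hc, e⟩ := h.WC j (w⁻¹ * v) (mul_mem (inv_mem hwV) hv)
      refine ⟨w * a, mul_mem hw ?_, mul_mem hwV (h.WV j ha), fun i hi => ?_⟩
      · exact (le_iSup (fun j : {j : ι // p j} => W j) ⟨j, hs j (Finset.mem_insert_self j s)⟩) ha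
      · have e1 : (w * a)⁻¹ * v = a⁻¹ * (w⁻¹ * v) := by group
        rw [e1]
        rcases Finset.mem_insert.1 hi with rfl | hi
        · rw [e]
          have : a⁻¹ * (a * c) = c := by group
          rw [this]
          exact hc
        · have hij : i ≠ j := fun e => hj (e ▸ hi)
          exact mul_mem (inv_mem (h.WjC i j hij ha)) (hwC i hi)
  obtain ⟨w, hw, hwV, hwC⟩ := key (Finset.univ.filter p) fun i hi => (Finset.mem_filter.1 hi).2
  exact ⟨w, hw, hwV, fun i hi => hwC i (Finset.mem_filter.2 ⟨Finset.mem_univ i, hi⟩)⟩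

/-- **`C i = ⨆ (j ≠ i), W j`** -/
theorem C_eq' [Finite ι] (h : FrL B Q V X ZJ L W Z C A q) (i : ι) : C i = ⨆ j : {j : ι // j ≠ i}, W j := by
  apply le_antisymm
  · intro c hc
    obtain ⟨w, hw, hwV, hwC⟩ := comp h (fun j => j ≠ i) (h.CV i hc)
    have hwi : w ∈ C i := (iSup_le fun j : {j : ι // j ≠ i} => h.WjC i j j.2.symm) hw
    have h1 := h.C0 (w⁻¹ * c) (mul_mem (inv_mem hwV) (h.CV i hc)) fun j => by
      by_cases hj : j = i
      · rw [hj]; exact mul_mem (inv_mem hwi) hc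
      · exact hwC j hj
    rw [← inv_mul_eq_one.1 h1]
    exact hw
  · exact iSup_le fun j => h.WjC i j j.2.symm

/-- **`V = ⨆ W i`** -/
theorem V_le_iSup' [Finite ι] (h : FrL B Q V X ZJ L W Z C A q) : V ≤ ⨆ i, W i := by
  intro v hv
  obtain ⟨w, hw, hwV, hwC⟩ := comp h (fun _ => True) hv
  have h1 := h.C0 (w⁻¹ * v) (mul_mem (inv_mem hwV) hv) fun j => hwC j trivial
  rw [← inv_mul_eq_one.1 h1]
  exact (iSup_le fun j : {j : ι // True} => le_iSup W j.1) hw

/-- `Z_J ≤ ⨆ Z i` -/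
theorem ZJ_le_iSup' [Finite ι] (h : FrL B Q V X ZJ L W Z C A q) : ZJ ≤ ⨆ i, Z i := by
  classical
  have := Fintype.ofFinite ι
  have key : ∀ s : Finset ι, ∀ v ∈ ZJ, ∃ w ∈ (⨆ l, Z l), w ∈ ZJ ∧ ∀ i ∈ s, w⁻¹ * v ∈ C i := by
    intro s
    induction s using Finset.induction_on with
    | empty => exact fun v _ => ⟨1, one_mem _, one_mem _, fun i hi => by simp at hi⟩
    | insert j s hj ih =>
      intro v hv
      obtain ⟨w, hw, hwJ, hwC⟩ := ih v hv
      obtain ⟨a, ha, c, hc, -, e⟩ := h.split_ZJ j (mul_mem (inv_mem hwJ) hv)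
      refine ⟨w * a, mul_mem hw ((le_iSup Z j) ha), mul_mem hwJ (h.Z_le j ha), fun i hi => ?_⟩
      have e1 : (w * a)⁻¹ * v = a⁻¹ * (w⁻¹ * v) := by group
      rw [e1]
      rcases Finset.mem_insert.1 hi with rfl | hi
      · rw [e]
        have : a⁻¹ * (a * c) = c := by group
        rw [this]
        exact hc
      · have hij : i ≠ j := fun e => hj (e ▸ hi)
        exact mul_mem (inv_mem (h.WjC i j hij ((h.blk j).ZV ha))) (hwC i hi)
  intro v hv
  obtain ⟨w, hw, hwJ, hwC⟩ := key Finset.univ v hv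
  have h1 := h.C0 (w⁻¹ * v) (h.ZJV (mul_mem (inv_mem hwJ) hv)) fun i => hwC i (Finset.mem_univ i)
  have h2 : v = w := (inv_mul_eq_one.1 h1).symm
  rw [h2]
  exact hw

/-- at most one element of `Z_J` has full support -/
theorem full_unique' (h : FrL B Q V X ZJ L W Z C A 2) {z z' : G} (hz : z ∈ ZJ) (hz' : z' ∈ ZJ) (hf : Full C z)
    (hf' : Full C z') : z = z' := by
  have h1 : z * z'⁻¹ = 1 := h.C0 _ (mul_mem (h.ZJV hz) (inv_mem (h.ZJV hz'))) fun i => by
    obtain ⟨a, ha, b, hb, e⟩ := Lev.Low.Line.ZJ_cmp h hz i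
    obtain ⟨a', ha', b', hb', e'⟩ := Lev.Low.Line.ZJ_cmp h hz' i
    have h2 : a ≠ 1 := by
      rintro rfl
      exact hf i (by rw [e, one_mul]; exact hb)
    have h3 : a' ≠ 1 := by
      rintro rfl
      exact hf' i (by rw [e', one_mul]; exact hb')
    have e3 := Lev.Low.Line.Z_two h ha h2 ha' h3
    have h4 : a * (b * b'⁻¹) = b * b'⁻¹ * a := mc h (h.ZV i ha) (h.CV i (mul_mem hb (inv_mem hb')))
    have h5 : z * z'⁻¹ = b * b'⁻¹ := by
      rw [e, e', ← e3]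
      calc a * b * (a * b')⁻¹ = a * (b * b'⁻¹) * a⁻¹ := by group
        _ = _ := by rw [h4]; group
    rw [h5]
    exact mul_mem hb (inv_mem hb')
  exact mul_inv_eq_one.1 h1

end frl

variable {G : Type u} [Group G] [Finite G] {ι : Type} [Finite ι] {S : Sylow 2 G} {V Q : Subgroup G} {n : ℕ}
  {L W Z C A : ι → Subgroup G}

/-! ### `B`, `Z_J` -/

omit [Finite ι] in
theorem B_two (S : Sylow 2 G) (n : ℕ) : IsPGroup 2 (BL (S : Subgroup G) n) := (lb S n).Bp

omit [Finite ι] in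
theorem B_cent (S : Sylow 2 G) (n : ℕ) : BL (S : Subgroup G) n ≤ centralizer (ZL (S : Subgroup G) n : Set G) :=
  inf_le_right

omit [Finite ι] in
theorem ZL_le_B (S : Sylow 2 G) (n : ℕ) : ZL (S : Subgroup G) n ≤ BL (S : Subgroup G) n := (lb S n).ZB

omit [Finite ι] in
theorem S_norm_B (S : Sylow 2 G) (n : ℕ) : (S : Subgroup G) ≤ normalizer (BL (S : Subgroup G) n : Set G) :=
  UniPlus.WC.weakNormal (wc S n) _ S.isPGroup' (lb S n).BS

omit [Finite ι] in
theorem le_norm_B {T : Subgroup G} (hT : IsPGroup 2 T) (hB : BL (S : Subgroup G) n ≤ T) :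
    T ≤ normalizer (BL (S : Subgroup G) n : Set G) := UniPlus.WC.weakNormal (wc S n) _ hT hB

omit [Finite ι] in
theorem syl_B (S : Sylow 2 G) (n : ℕ) : Syl (BL (S : Subgroup G) n) (centralizer (ZL (S : Subgroup G) n : Set G)) :=
  (lb S n).syl

omit [Finite ι] in
/-- a 2-subgroup of `C_G(ZJ)` normalised by `B` lies in `B` -/
theorem le_B_of {R : Subgroup G} (hR : IsPGroup 2 R) (hRD : R ≤ centralizer (ZL (S : Subgroup G) n : Set G))
    (hn : BL (S : Subgroup G) n ≤ normalizer (R : Set G)) : R ≤ BL (S : Subgroup G) n := by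
  have : Fact (Nat.Prime 2) := ⟨Nat.prime_two⟩
  have h1 : IsPGroup 2 ((BL (S : Subgroup G) n ⊔ R : Subgroup G)) :=
    IsPGroup.to_sup_of_normal_right' (B_two S n) hR hn
  have h2 := (syl_B S n).2.2 _ (sup_le (B_cent S n) hRD) h1 le_sup_left
  rw [← h2]
  exact le_sup_right

/-! ### `V`, `C i` -/

theorem V_le_iSup (h : LnV S V Q n L W Z C A) : V ≤ ⨆ i, W i := V_le_iSup' h.fr

theorem ZJ_le_iSup (h : LnV S V Q n L W Z C A) : ZL (S : Subgroup G) n ≤ ⨆ i, Z i := ZJ_le_iSup' h.fr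

theorem C_eq (h : LnV S V Q n L W Z C A) (i : ι) : C i = ⨆ j : {j : ι // j ≠ i}, W j := C_eq' h.fr i

omit [Finite ι] in
theorem W_ne (h : LnV S V Q n L W Z C A) (i : ι) : W i ≠ ⊥ := by
  intro e
  obtain ⟨z, hz, hz1⟩ := Lv.Z_ne h i
  have h1 := Lv.Z_W h i hz
  rw [e, mem_bot] at h1
  exact hz1 h1

omit [Finite ι] in
theorem W_inj (h : LnV S V Q n L W Z C A) {i j : ι} (e : W i = W j) : i = j := by
  by_contra hne
  obtain ⟨z, hz, hz1⟩ := Lv.Z_ne h i
  exact Lv.not_mem_C h hz hz1 (h.fr.WjC i j hne (e ▸ Lv.Z_W h i hz))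

/-- **`N_G(B)` permutes the `(W i, Z i, C i)`** -/
theorem perm' (h : LnV S V Q n L W Z C A) {g : G} (hg : g ∈ normalizer (BL (S : Subgroup G) n : Set G)) :
    ∃ σ : ι → ι, Function.Injective σ ∧ ∀ i, cj g (W i) = W (σ i) ∧ cj g (Z i) = Z (σ i) ∧ cj g (C i) = C (σ i) := by
  choose σ hσZ hσW _ using Lv.perm h hg
  have hinj : Function.Injective σ := fun i j e => by
    have h1 : cj g (W i) = cj g (W j) := by rw [hσW, hσW, e]
    have h2 := congrArg (cj g⁻¹) h1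
    rw [cj_inv_cj, cj_inv_cj] at h2
    exact W_inj h h2
  have hsurj : Function.Surjective σ := Finite.injective_iff_surjective.1 hinj
  refine ⟨σ, hinj, fun i => ⟨hσW i, hσZ i, ?_⟩⟩
  rw [C_eq h i, C_eq h (σ i)]
  show Subgroup.map _ _ = _
  rw [Subgroup.map_iSup]
  apply le_antisymm
  · refine iSup_le fun j => ?_
    have h1 : Subgroup.map (MulAut.conj g).toMonoidHom (W j) = W (σ j) := hσW j
    rw [h1]
    exact le_iSup (fun k : {k : ι // k ≠ σ i} => W k) ⟨σ j, fun e => j.2 (hinj e)⟩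
  · refine iSup_le fun k => ?_
    obtain ⟨j, hj⟩ := hsurj k
    have h1 : Subgroup.map (MulAut.conj g).toMonoidHom (W j) = W k := by
      rw [← hj]; exact hσW j
    rw [← h1]
    exact le_iSup (fun k : {k : ι // k ≠ i} => Subgroup.map (MulAut.conj g).toMonoidHom (W k))
      ⟨j, fun e => k.2 (by rw [← hj, e])⟩

/-- **`(C i)^g = C j` if `(W i)^g = W j`** -/
theorem C_cj (h : LnV S V Q n L W Z C A) {g : G} (hg : g ∈ normalizer (BL (S : Subgroup G) n : Set G)) {i j : ι}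
    (e : cj g (W i) = W j) : cj g (C i) = C j := by
  obtain ⟨σ, -, h1⟩ := perm' h hg
  have h2 : j = σ i := W_inj h (e.symm.trans (h1 i).1)
  rw [h2]
  exact (h1 i).2.2

/-- **`(C i)^g = C j` if `(Z i)^g = Z j`** -/
theorem C_cj' (h : LnV S V Q n L W Z C A) {g : G} (hg : g ∈ normalizer (BL (S : Subgroup G) n : Set G)) {i j : ι}
    (e : cj g (Z i) = Z j) : cj g (C i) = C j := C_cj h hg (Lv.W_cj h hg e)

/-! ### Blocks -/

omit [Finite ι] in
theorem block (h : LnV S V Q n L W Z C A) (i : ι) : LemmaK.Block 2 (BL (S : Subgroup G) n) (L i) (W i) :=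
  (nb h.fr i).block (wc S n) (B_two S n)

omit [Finite ι] in
/-- `L i` centralises `Z j`, `j ≠ i` -/
theorem L_cent_Z (h : LnV S V Q n L W Z C A) {i j : ι} (hij : i ≠ j) {l z : G} (hl : l ∈ L i) (hz : z ∈ Z j) :
    l * z = z * l := h.fr.LC i l hl z (h.fr.Z_le j hz) (Lv.Z_C h hij hz)

/-! ### Full support -/

omit [Finite ι] in
theorem norm_ZL {y z : G} (hy : y ∈ normalizer (BL (S : Subgroup G) n : Set G)) (hz : z ∈ ZL (S : Subgroup G) n) :
    y * z * y⁻¹ ∈ ZL (S : Subgroup G) n := Lv.ZL_cj_mem hy hz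

theorem full_norm (h : LnV S V Q n L W Z C A) {y z : G} (hy : y ∈ normalizer (BL (S : Subgroup G) n : Set G))
    (hz : z ∈ ZL (S : Subgroup G) n) (hf : Full C z) : Full C (y * z * y⁻¹) := by
  intro j hj
  obtain ⟨i, -, -, h1⟩ := Lv.perm h (inv_mem hy) j
  have h2 := (h1 _ (norm_ZL hy hz)).2 hj
  have e : y⁻¹ * (y * z * y⁻¹) * y⁻¹⁻¹ = z := by group
  rw [e] at h2
  exact hf i h2

omit [Finite ι] in
theorem full_unique (h : LnV S V Q n L W Z C A) {z z' : G} (hz : z ∈ ZL (S : Subgroup G) n)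
    (hz' : z' ∈ ZL (S : Subgroup G) n) (hf : Full C z) (hf' : Full C z') : z = z' := full_unique' h.fr hz hz' hf hf'

theorem exists_full (h : LnV S V Q n L W Z C A) : ∃ z ∈ ZL (S : Subgroup G) n, Full C z :=
  Lev.Low.Line.exists_full h.fr

/-- `N_G(B)` centralises the elements of full support of `Z_J` -/
theorem nS (h : LnV S V Q n L W Z C A) {z : G} (hz : z ∈ ZL (S : Subgroup G) n) (hf : ∀ i, z ∉ C i) {s : G}
    (hs : s ∈ normalizer (BL (S : Subgroup G) n : Set G)) : s * z = z * s := by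
  have h2 := full_unique h (norm_ZL hs hz) hz (full_norm h hs hz hf) hf
  exact mul_inv_eq_iff_eq_mul.1 h2

/-- **(zS)** `S` centralises the elements of full support of `Z_J` -/
theorem zS (h : LnV S V Q n L W Z C A) {z : G} (hz : z ∈ ZL (S : Subgroup G) n) (hf : ∀ i, z ∉ C i) {s : G}
    (hs : s ∈ (S : Subgroup G)) : s * z = z * s := nS h hz hf (S_norm_B S n hs)

/-- the element of full support lies in `Ω₁Z(S)` -/
theorem mem_zc_S (h : LnV S V Q n L W Z C A) {z : G} (hz : z ∈ ZL (S : Subgroup G) n) (hf : ∀ i, z ∉ C i) :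
    z ∈ zc (S : Subgroup G) :=
  ZN.ChoiceBase.mem_zc.2 ⟨(lb S n).BS (ZL_le_B S n hz), (lb S n).sq z hz, fun _ hs => zS h hz hf hs⟩

/-- the element of full support: it lies in `Z_J`, in `Ω₁Z(S)` and is centralised by `N_G(B)` -/
theorem exists_z (h : LnV S V Q n L W Z C A) : ∃ z ∈ ZL (S : Subgroup G) n, (∀ i, z ∉ C i) ∧
    z ∈ zc (S : Subgroup G) ∧ ∀ s ∈ normalizer (BL (S : Subgroup G) n : Set G), s * z = z * s := by
  obtain ⟨z, hz, hf⟩ := exists_full h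
  exact ⟨z, hz, hf, mem_zc_S h hz hf, fun s hs => nS h hz hf hs⟩

/-- **(W)** -/
theorem wt (h : LnV S V Q n L W Z C A) : ∀ g z : G, z ∈ ZL (S : Subgroup G) n → g * z * g⁻¹ ∈ ZL (S : Subgroup G) n →
    (∀ i, z ∉ C i) → ∀ i, g * z * g⁻¹ ∉ C i := by
  intro g z hz hg hf
  have : Fact (Nat.Prime 2) := ⟨Nat.prime_two⟩
  obtain ⟨z', hz'⟩ : ∃ z', z' = g * z * g⁻¹ := ⟨_, rfl⟩
  rw [← hz'] at hg ⊢
  have hBz : BL (S : Subgroup G) n ≤ centralizer ({z'} : Set G) := by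
    intro b hb
    rw [mem_centralizer_singleton_iff]
    exact (mem_centralizer_iff.1 (B_cent S n hb) z' hg).symm
  have hSz : ((g • S : Sylow 2 G) : Subgroup G) ≤ centralizer ({z'} : Set G) := by
    rw [Sylow.coe_subgroup_smul]
    rintro _ ⟨s, hs, rfl⟩
    rw [mem_centralizer_singleton_iff]
    have h1 := zS h hz hf hs
    change g * s * g⁻¹ * z' = z' * (g * s * g⁻¹)
    rw [hz']
    calc g * s * g⁻¹ * (g * z * g⁻¹) = g * (s * z) * g⁻¹ := by group
      _ = g * (z * s) * g⁻¹ := by rw [h1]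
      _ = _ := by group
  have hB2 : IsPGroup 2 ((BL (S : Subgroup G) n).subgroupOf (centralizer ({z'} : Set G))) :=
    (B_two S n).comap_of_injective _ (Subgroup.subtype_injective _)
  obtain ⟨R, hR⟩ := hB2.exists_le_sylow
  obtain ⟨x, hx⟩ := MulAction.exists_smul_eq (centralizer ({z'} : Set G)) ((g • S).subtype hSz) R
  have h2 : BL (S : Subgroup G) n ≤ cj ((x : G) * g) (S : Subgroup G) := by
    intro b hb
    have h3 : (⟨b, hBz hb⟩ : centralizer ({z'} : Set G)) ∈ R := hR hb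
    rw [← hx] at h3
    obtain ⟨⟨c, hc⟩, hc1, e⟩ := h3
    obtain ⟨s, hs, rfl⟩ := hc1
    refine ⟨s, hs, ?_⟩
    have e2 : (x : G) * (g * s * g⁻¹) * (x : G)⁻¹ = b := congrArg Subtype.val e
    change (x : G) * g * s * ((x : G) * g)⁻¹ = b
    rw [← e2]
    group
  have h3 : cj ((x : G) * g)⁻¹ (BL (S : Subgroup G) n) ≤ (S : Subgroup G) := by
    have := cj_mono ((x : G) * g)⁻¹ h2
    rwa [cj_inv_cj] at this
  have h4 : ((x : G) * g)⁻¹ ∈ normalizer (BL (S : Subgroup G) n : Set G) :=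
    mem_normalizer_iff_cj.2 (wc S n (S : Subgroup G) S.isPGroup' (lb S n).BS _ h3)
  have h5 : (x : G) * g ∈ normalizer (BL (S : Subgroup G) n : Set G) := inv_mem_iff.1 h4
  have h6 := full_norm h h5 hz hf
  have e : (x : G) * g * z * ((x : G) * g)⁻¹ = z' := by
    have h7 := mem_centralizer_singleton_iff.1 x.2
    calc (x : G) * g * z * ((x : G) * g)⁻¹ = x * (g * z * g⁻¹) * (x : G)⁻¹ := by group
      _ = z' := by rw [← hz', h7]; group
  rwa [e] at h6

/-! ### Sylow, `O₂(C_G(Z p : p ≠ l, m))` -/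

/-- an element of `C_ij` centralising `Z i`, `Z j` centralises `ZJ` -/
theorem mem_D (h : LnV S V Q n L W Z C A) {i j : ι} {x : G} (hx : x ∈ CI Z i j) (hi : ∀ z ∈ Z i, z * x = x * z)
    (hj : ∀ z ∈ Z j, z * x = x * z) : x ∈ centralizer (ZL (S : Subgroup G) n : Set G) := by
  have h1 : (⨆ l, Z l) ≤ centralizer ({x} : Set G) := by
    refine iSup_le fun l z hz => mem_centralizer_iff.2 fun y hy => ?_
    rw [Set.mem_singleton_iff.1 hy]
    by_cases hli : l = i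
    · subst hli; exact (hi z hz).symm
    · by_cases hlj : l = j
      · subst hlj; exact (hj z hz).symm
      · exact (mem_CI.1 hx l hli hlj z hz).symm
  exact mem_centralizer_iff.2 fun z hz =>
    (mem_centralizer_iff.1 (h1 (ZJ_le_iSup h hz)) x (Set.mem_singleton x)).symm

/-- An element of `N_G(B)` which centralises `Z p` for all `p ≠ l` centralises `Z_J`. -/
theorem mem_cent (h : LnV S V Q n L W Z C A) {l : ι} {t : G} (ht : t ∈ normalizer (BL (S : Subgroup G) n : Set G))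
    (hc : ∀ p, p ≠ l → ∀ x ∈ Z p, t * x = x * t) : t ∈ centralizer (ZL (S : Subgroup G) n : Set G) := by
  obtain ⟨j, hj, -, -⟩ := Lv.perm h ht l
  have hjl : j = l := by
    by_contra hne
    have h1 : cj t (Z j) = Z j := by
      have h2 : t ∈ centralizer (Z j : Set G) := mem_centralizer_iff.2 fun x hx => (hc j hne x hx).symm
      exact cj_eq_of_mem_normalizer (centralizer_le_normalizer _ h2)
    have h2 := hj.trans h1.symm
    have h3 := congrArg (cj t⁻¹) h2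
    rw [cj_inv_cj, cj_inv_cj] at h3
    exact hne (Lv.Z_inj h h3).symm
  rw [hjl] at hj
  have hl : ∀ z ∈ Z l, z * t = t * z := fun z hz => (Lv.cent_of_cj h hj hz).symm
  exact mem_D h (i := l) (j := l) (mem_CI.2 fun p hp _ z hz => (hc p hp z hz).symm) hl hl

/-- **(syl)** `B` is a Sylow 2-subgroup of `C_G(Z p : p ≠ l)`. -/
theorem syl (h : LnV S V Q n L W Z C A) :
    ∀ (l : ι) (T : Subgroup G), IsPGroup 2 T → BL (S : Subgroup G) n ≤ T →
      (∀ p, p ≠ l → T ≤ centralizer (Z p : Set G)) → T ≤ BL (S : Subgroup G) n := by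
  intro l T hT hBT hc
  refine le_B_of hT (fun t ht => ?_) (hBT.trans le_normalizer)
  exact mem_cent h (l := l) (le_norm_B hT hBT ht) fun p hp x hx =>
    (mem_centralizer_iff.1 (hc p hp ht) x hx).symm

omit [Finite ι] in
theorem D_le_Y (h : LnV S V Q n L W Z C A) (j : ι) : centralizer (ZL (S : Subgroup G) n : Set G) ≤ YI Z j :=
  fun _ hx => mem_YI.2 fun l _ z hz => mem_centralizer_iff.1 hx z (h.fr.Z_le l hz)

omit [Finite ι] in
theorem D_le_C (h : LnV S V Q n L W Z C A) (i j : ι) : centralizer (ZL (S : Subgroup G) n : Set G) ≤ CI Z i j :=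
  (D_le_Y h j).trans (YI_le_right i j)

omit [Finite ι] in
theorem B_le_C (h : LnV S V Q n L W Z C A) (i j : ι) : BL (S : Subgroup G) n ≤ CI Z i j :=
  (B_cent S n).trans (D_le_C h i j)

omit [Finite ι] in
theorem L_le_Y (h : LnV S V Q n L W Z C A) (j : ι) : L j ≤ YI Z j := fun _ hx => mem_YI.2 fun _ hl _ hz =>
  (L_cent_Z h hl.symm hx hz).symm

omit [Finite ι] in
theorem ZJ_comm (h : LnV S V Q n L W Z C A) {z w : G} (hz : z ∈ ZL (S : Subgroup G) n)
    (hw : w ∈ ZL (S : Subgroup G) n) : z * w = w * z := h.fr.Vc (h.fr.ZJV hz) (h.fr.ZJV hw)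

omit [Finite ι] in
/-- **`C_ij` has characteristic 2** (there is a third index). -/
theorem char2_CI (h : LnV S V Q n L W Z C A) {i j l : ι} (hi : l ≠ i) (hj : l ≠ j) :
    CI Z i j ⊓ centralizer (o2 (CI Z i j) : Set G) ≤ o2 (CI Z i j) := by
  set U : Subgroup G := ⨆ m : {m : ι // m ≠ i ∧ m ≠ j}, Z m with hU
  have e : CI Z i j = centralizer (U : Set G) := by
    apply le_antisymm
    · rw [Subgroup.le_centralizer_iff, hU]
      refine iSup_le fun m z hz => mem_centralizer_iff.2 fun x hx => ?_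
      exact (mem_CI.1 hx m.1 m.2.1 m.2.2 z hz).symm
    · intro x hx
      refine mem_CI.2 fun m hmi hmj z hz => mem_centralizer_iff.1 hx z ?_
      exact (le_iSup (fun m : {m : ι // m ≠ i ∧ m ≠ j} => Z m) ⟨m, hmi, hmj⟩) hz
  have hUV : U ≤ ZL (S : Subgroup G) n := iSup_le fun m => h.fr.Z_le m
  have hU2 : IsPGroup 2 U := (B_two S n).to_le (hUV.trans (ZL_le_B S n))
  have hU1 : U ≠ ⊥ := by
    intro h0
    obtain ⟨z, hz, hz1⟩ := Lv.Z_ne h l
    have h1 : z ∈ U := (le_iSup (fun m : {m : ι // m ≠ i ∧ m ≠ j} => Z m) ⟨l, hi, hj⟩) hz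
    rw [h0, mem_bot] at h1
    exact hz1 h1
  rw [e]
  exact NOne.LemmaT.char2_centralizer h.char2 hU2 hU1

omit [Finite ι] in
theorem o2CI_cent_left (h : LnV S V Q n L W Z C A) (i j : ι) : o2 (CI Z i j) ≤ centralizer (W i : Set G) := by
  have : Fact (Nat.Prime 2) := ⟨Nat.prime_two⟩
  exact (block h i).le_centralizer (isPGroup_o2 _)
    (((L_le_Y h i).trans (YI_le_left i j)).trans (le_normalizer_o2 _))

omit [Finite ι] in
theorem o2CI_cent_right (h : LnV S V Q n L W Z C A) (i j : ι) : o2 (CI Z i j) ≤ centralizer (W j : Set G) := by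
  have : Fact (Nat.Prime 2) := ⟨Nat.prime_two⟩
  exact (block h j).le_centralizer (isPGroup_o2 _)
    (((L_le_Y h j).trans (YI_le_right i j)).trans (le_normalizer_o2 _))

/-- `O₂(C_ij) ≤ C_G(ZJ)` -/
theorem o2CI_le_D (h : LnV S V Q n L W Z C A) (i j : ι) :
    o2 (CI Z i j) ≤ centralizer (ZL (S : Subgroup G) n : Set G) := fun x hx =>
  mem_D h (o2_le _ hx)
    (fun z hz => mem_centralizer_iff.1 (o2CI_cent_left h i j hx) z ((h.fr.blk i).ZV hz))
    (fun z hz => mem_centralizer_iff.1 (o2CI_cent_right h i j hx) z ((h.fr.blk j).ZV hz))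

/-- **`O₂(C_ij) ≤ B`** -/
theorem o2CI_le_B (h : LnV S V Q n L W Z C A) (i j : ι) : o2 (CI Z i j) ≤ BL (S : Subgroup G) n :=
  le_B_of (isPGroup_o2 _) (o2CI_le_D h i j) ((B_le_C h i j).trans (le_normalizer_o2 _))

/-- **`ZJ ≤ Ω₁Z(O₂(C_ij))`** -/
theorem ZJ_le_zc (h : LnV S V Q n L W Z C A) {i j l : ι} (hi : l ≠ i) (hj : l ≠ j) :
    ZL (S : Subgroup G) n ≤ zc (o2 (CI Z i j)) := by
  intro z hz
  have hc : z ∈ centralizer (o2 (CI Z i j) : Set G) := mem_centralizer_iff.2 fun x hx =>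
    (mem_centralizer_iff.1 (o2CI_le_D h i j hx) z hz).symm
  have hzD : z ∈ centralizer (ZL (S : Subgroup G) n : Set G) :=
    mem_centralizer_iff.2 fun _ hw => ZJ_comm h hw hz
  refine mem_zc.2 ⟨char2_CI h hi hj ⟨D_le_C h i j hzD, hc⟩, ?_, fun y hy => mem_centralizer_iff.1 hc y hy⟩
  exact (lb S n).sq z hz

omit [Finite ι] in
theorem le_normalizer_zc_o2 (X : Subgroup G) : X ≤ normalizer (zc (o2 X) : Set G) :=
  (le_normalizer_o2 X).trans (normalizer_le_of_cj (F := zc) LemmaK.Main.zc_cj _)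

/-- **(loc2)**, strong form: `E = Ω₁Z(O₂(C_G(Z p : p ≠ l, m)))`. -/
theorem loc2' (h : LnV S V Q n L W Z C A) {l m r : ι} (hl : r ≠ l) (hm : r ≠ m) :
    ∃ E : Subgroup G, IsElementaryAbelian 2 E ∧ E ≤ BL (S : Subgroup G) n ∧
      ZL (S : Subgroup G) n ≤ E ∧ ∀ g : G, (∀ p, p ≠ l → p ≠ m → ∀ x ∈ Z p, g * x = x * g) →
        g ∈ normalizer (E : Set G) := by
  refine ⟨zc (o2 (CI Z l m)), NO3S.OneLine.zc_elem _, (zc_le _).trans (o2CI_le_B h l m),
    ZJ_le_zc h hl hm, fun g hg => le_normalizer_zc_o2 _ ?_⟩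
  exact mem_CI.2 fun p hp hp' z hz => (hg p hp hp' z hz).symm

/-- **(loc1)** -/
theorem loc1 (h : LnV S V Q n L W Z C A) (h2 : ∀ l : ι, ∃ r, r ≠ l) :
    ∀ l : ι, ∃ E : Subgroup G, IsElementaryAbelian 2 E ∧ E ≤ BL (S : Subgroup G) n ∧
      ZL (S : Subgroup G) n ≤ E ∧ ∀ g : G, (∀ p, p ≠ l → ∀ x ∈ Z p, g * x = x * g) →
        g ∈ normalizer (E : Set G) := by
  intro l
  obtain ⟨r, hr⟩ := h2 l
  obtain ⟨E, h1, h2, h3, h4⟩ := loc2' h hr hr
  exact ⟨E, h1, h2, h3, fun g hg => h4 g fun p hp _ => hg p hp⟩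

/-- **(loc2)**: `k ≥ 3`. -/
theorem loc2 (h : LnV S V Q n L W Z C A) (h3 : ∀ l m : ι, ∃ r, r ≠ l ∧ r ≠ m) :
    ∀ l m : ι, l ≠ m → ∃ E : Subgroup G, IsElementaryAbelian 2 E ∧ E ≤ (S : Subgroup G) ∧
      (∀ x ∈ Z l, ∀ y ∈ Z m, x ≠ 1 → y ≠ 1 → x * y ∈ E) ∧
      ∀ g : G, (∀ p, p ≠ l → p ≠ m → ∀ x ∈ Z p, g * x = x * g) → g ∈ normalizer (E : Set G) := by
  intro l m _
  obtain ⟨r, hl, hm⟩ := h3 l m
  obtain ⟨E, h1, h2, h4, h5⟩ := loc2' h hl hm
  exact ⟨E, h1, h2.trans (lb S n).BS, fun x hx y hy _ _ =>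
    mul_mem (h4 (h.fr.Z_le l hx)) (h4 (h.fr.Z_le m hy)), h5⟩

/-! ### Local subgroups -/

/-- `B_j = C_S(Ω₁Z(lev S j)) ≤ B` -/
theorem BL_le {j : ℕ} (hj : j ≤ n) :
    (S : Subgroup G) ⊓ centralizer (zc (lev (S : Subgroup G) j) : Set G) ≤ BL (S : Subgroup G) n :=
  inf_le_inf_left _ (centralizer_le ((lev_isLev (S : Subgroup G) j).zc_le_zc (lev_mono _ (by omega : j ≤ n + 1))
    (lev_le _ (n + 1))))

/-- **(fact)**: a local `H` is generated by `N_H(Ω₁Z(lev S j))` and `C_H(Ω₁Z(S))`. -/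
theorem fact_zc (S : Sylow 2 G) {H : Subgroup G} (hH : IsLoc (S : Subgroup G) H) {n j : ℕ} (hj : j ≤ n)
    (hall : ∀ P, IsParS (S : Subgroup G) P → lev (S : Subgroup G) n ≤ o2 P) :
    H ≤ (H ⊓ normalizer (zc (lev (S : Subgroup G) j) : Set G)) ⊔
      (H ⊓ centralizer (zc (S : Subgroup G) : Set G)) := by
  have hlv := lev_isLev (S : Subgroup G) j
  refine hH.le_of_forall S ?_ fun Y hY hYH => ?_
  · refine le_trans (le_inf inf_le_left fun g hg => ?_) le_sup_left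
    exact NO3S.Level.normalizer_le_zc _ (hlv.norm _ hlv.le le_rfl hg.2)
  · by_cases hZ : IsParS (S : Subgroup G) Y
    · refine le_trans (le_inf hYH ?_) le_sup_left
      exact (hlv.le_norm_of_o2 ((lev_mono _ hj).trans (hall Y hZ)) (hY.isLoc.o2_le S)).trans
        (NO3S.Level.normalizer_le_zc _)
    · exact le_trans (le_inf hYH (FrameNOFF.par_le_CZ S hY hZ)) le_sup_right

/-- **(fact)**, for every `x ∈ Ω₁Z(S)`. -/
theorem fact' (S : Sylow 2 G) {H : Subgroup G} (hH : IsLoc (S : Subgroup G) H) {n j : ℕ} (hj : j ≤ n)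
    (hall : ∀ P, IsParS (S : Subgroup G) P → lev (S : Subgroup G) n ≤ o2 P) {x : G}
    (hx : x ∈ zc (S : Subgroup G)) :
    H ≤ (H ⊓ normalizer (zc (lev (S : Subgroup G) j) : Set G)) ⊔ (H ⊓ centralizer ({x} : Set G)) :=
  (fact_zc S hH hj hall).trans (sup_le_sup_left (inf_le_inf_left _
    (centralizer_le (Set.singleton_subset_iff.2 hx))) _)

/-- `S ≤ H ≤ N_G(U)`, `U ≠ 1` a 2-group: `H` is local. -/
theorem isLoc_of (S : Sylow 2 G) {H U : Subgroup G} (hS : (S : Subgroup G) ≤ H) (hU1 : U ≠ ⊥) (hU : IsPGroup 2 U)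
    (hn : H ≤ normalizer (U : Set G)) : IsLoc (S : Subgroup G) H := by
  have : Fact (Nat.Prime 2) := ⟨Nat.prime_two⟩
  refine ⟨hS, fun e => hU1 ?_⟩
  have h1 : IsPGroup 2 (((S : Subgroup G) ⊔ U : Subgroup G)) := IsPGroup.to_sup_of_normal_right' S.isPGroup' hU
    (hS.trans hn)
  have h2 : U ≤ (S : Subgroup G) := by
    have h3 := S.is_maximal' h1 le_sup_left
    rw [← h3]
    exact le_sup_right
  have h4 : U ≤ o2 H := le_o2 hU (h2.trans hS) hn
  rw [e] at h4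
  exact le_bot_iff.1 h4

/-- **(fact)**, for every `x ∈ Ω₁Z(S)`, `H ≥ S` in the normaliser of a 2-group `U ≠ 1`. -/
theorem fact (S : Sylow 2 G) {n : ℕ} (hall : ∀ P, IsParS (S : Subgroup G) P → lev (S : Subgroup G) n ≤ o2 P) :
    ∀ x ∈ zc (S : Subgroup G), ∀ H : Subgroup G, (S : Subgroup G) ≤ H →
      (∃ U : Subgroup G, U ≠ ⊥ ∧ IsPGroup 2 U ∧ H ≤ normalizer (U : Set G)) → ∀ j ≤ n,
        H ≤ (H ⊓ normalizer (zc (lev (S : Subgroup G) j) : Set G)) ⊔ (H ⊓ centralizer ({x} : Set G)) := by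
  intro x hx H hH hU j hj
  obtain ⟨U, hU1, hU2, hU3⟩ := hU
  exact fact' S (isLoc_of S hH hU1 hU2 hU3) hj hall hx

/-- **(fact)** for the element of full support -/
theorem fact_full (h : LnV S V Q n L W Z C A)
    (hall : ∀ P, IsParS (S : Subgroup G) P → lev (S : Subgroup G) n ≤ o2 P) :
    ∃ z ∈ ZL (S : Subgroup G) n, Full C z ∧ z ∈ zc (S : Subgroup G) ∧
      (∀ s ∈ normalizer (BL (S : Subgroup G) n : Set G), s * z = z * s) ∧
      ∀ H : Subgroup G, (S : Subgroup G) ≤ H →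
        (∃ U : Subgroup G, U ≠ ⊥ ∧ IsPGroup 2 U ∧ H ≤ normalizer (U : Set G)) → ∀ j ≤ n,
          H ≤ (H ⊓ normalizer (zc (lev (S : Subgroup G) j) : Set G)) ⊔ (H ⊓ centralizer ({z} : Set G)) := by
  obtain ⟨z, hz, hf, hzS, hN⟩ := exists_z h
  exact ⟨z, hz, hf, hzS, hN, fact S hall z hzS⟩

end Cfsg.Agent.Omega.OM.SwapV.TorusV.LocL

end

section


/-!
# TORUS over an abstract module (box R): the family of blocks (the proofs of `TorusK/Fam.lean`)
-/

set_option autoImplicit false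
set_option linter.unusedSectionVars false

namespace Cfsg.Agent.Omega.OM.Lev.Low.TorusV

open Subgroup Cfsg Cfsg.Agent.ZN Cfsg.Agent.ZN.ChoiceBase Cfsg.Agent.Omega.OM.Lev.Low.TorusK
open Cfsg.Agent.Omega.SQ1.Bau (mem_sup_comm card_sup_comm elem_comm elem_sq)
open Cfsg.Agent.Omega.NO3S.Level.Claim (Fm Bl cB mem_cB cB_le)
open Cfsg.Agent.Omega.OM.Lev.Uni (FrL)
open Cfsg.Agent.Omega.OM.Lev.Low.TorusK.PBC

universe u

variable {G : Type u} [Group G]

variable {ι : Type} {S B Q V Xn ZJ B0 X M0 Y0 : Subgroup G} {L W Z C A : ι → Subgroup G} {z : G}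
  {l : ι} {K N N1 N0 : Subgroup G}

/-- `B` permutes the lines. -/
theorem na_lines [Finite G] (h : TK S B Q V Xn ZJ B0 X M0 Y0 L W Z C A z) (k : BK B B0 X M0 Y0 W l K N N1 N0)
    (a : NA B K N) : ∀ b ∈ B, ∀ g ∈ K, ∃ g' ∈ K, ChoiceBase.cj b (ChoiceBase.cj g (W l)) = ChoiceBase.cj g' (W l) := by
  intro b hb g hg
  obtain ⟨g', hg', h1⟩ := a.act b hb g hg
  refine ⟨g', hg', ?_⟩
  have h2 : ∀ w ∈ W l, w ∈ N := fun w hw => k.pb.N1N (k.WN hw)
  have h3 : ChoiceBase.cj (b * g * b⁻¹) (W l) = ChoiceBase.cj g' (W l) := by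
    ext x
    constructor
    · intro hx
      obtain ⟨w, hw, rfl⟩ := ex_cj hx
      rw [h1 w (h2 w hw)]
      exact cj_mem hw
    · intro hx
      obtain ⟨w, hw, rfl⟩ := ex_cj hx
      rw [← h1 w (h2 w hw)]
      exact cj_mem hw
  rw [← h3, cj_cj]
  conv_rhs => rw [← h.BW hb l, cj_cj]
  congr 1
  group

/-- `K` is transitive on the non-trivial elements of the module. -/
theorem BK.tr [Finite G] [Finite ι] (h : TK S B Q V Xn ZJ B0 X M0 Y0 L W Z C A z)
    (k : BK B B0 X M0 Y0 W l K N N1 N0) {zl : G} (hz : zl ∈ W l) (hz1 : zl ≠ 1) :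
    ∀ v ∈ (⁅N, K⁆ : Subgroup G), v ≠ 1 → ∃ e ∈ K, e * zl * e⁻¹ = v := by
  intro v hv hv1
  have n4 := k.n4 h
  have m4 := (SigN4.toSig n4).toM4
  by_cases hvW : v ∈ W l
  · obtain ⟨e, he, -, h1⟩ := n4.tor zl hz hz1 v hvW hv1
    exact ⟨e, he, h1⟩
  · obtain ⟨x, hx, hm⟩ := n4.mv
    have hne : ChoiceBase.cj x (W l) ≠ W l := by
      intro e
      obtain ⟨w, hw, hw'⟩ := hm
      exact hw' (e ▸ cj_mem hw)
    obtain ⟨p, hp, q, hq, e1⟩ := m4.compl hx hne hv
    have hqn : q ∉ W l := by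
      intro h1
      exact hvW (e1 ▸ mul_mem hp h1)
    have hqV : q ∈ (⁅N, K⁆ : Subgroup G) := m4.lineV hx hq
    obtain ⟨b, hb, e2⟩ := m4.full hqV hqn hp
    obtain ⟨q0, hq0, e3⟩ := ex_cj hq
    have hq01 : q0 ≠ 1 := by
      rintro rfl
      apply hqn
      rw [e3]
      simp
    obtain ⟨e, he, -, e4⟩ := n4.tor zl hz hz1 q0 hq0 hq01
    refine ⟨b * x * e, mul_mem (mul_mem (n4.BK hb) hx) he, ?_⟩
    have e5 : b * x * e * zl * (b * x * e)⁻¹ = b * (x * (e * zl * e⁻¹) * x⁻¹) * b⁻¹ := by group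
    rw [e5, e4, ← e3, e1, ← e2]
    rfl

/-- **(chi)**: two blocks over the same line have the same module. -/
theorem BK.chi [Finite G] [Finite ι] (h : TK S B Q V Xn ZJ B0 X M0 Y0 L W Z C A z)
    (k : BK B B0 X M0 Y0 W l K N N1 N0) (a : NA B K N) {K' N' N1' N0' : Subgroup G}
    (k' : BK B B0 X M0 Y0 W l K' N' N1' N0') (a' : NA B K' N') : ⁅N', K'⁆ = ⁅N, K⁆ := by
  obtain ⟨zl, hzl, zo, hzo, -, ez⟩ := h.fr.split_ZJ l h.zJ
  have hzl1 : zl ≠ 1 := fun e => h.zC l (by rw [ez, e, one_mul]; exact hzo)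
  have hFX : ∀ x ∈ (⁅N, K⁆ : Subgroup G), ∀ y ∈ X, x * y = y * x := fun x hx y hy => h.cX (k.VB0 hx) hy
  have hFF : ∀ x ∈ (⁅N, K⁆ : Subgroup G), ∀ y ∈ (⁅N, K⁆ : Subgroup G), x * y = y * x := fun x hx y hy =>
    k.pb.comm (k.pb.VN hx) (k.pb.VN hy)
  have hzoJ : zo ∈ ZJ := by
    have : zo = zl⁻¹ * z := by rw [ez]; group
    rw [this]
    exact mul_mem (inv_mem (h.fr.Z_le l hzl)) h.zJ
  have hcen : ∀ {K' N' N1' N0' : Subgroup G}, BK B B0 X M0 Y0 W l K' N' N1' N0' → ∀ e ∈ K', e * zo = zo * e := by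
    intro K' N' N1' N0' k' e he
    have h1 : zo ∈ centralizer (K' : Set G) := h.mem_of_C (l := l) (fun p hp => (h.ZW p).trans fun w hw =>
      mem_centralizer_iff.2 fun g hg => k'.cW p hp w hw g hg) hzoJ hzo
    exact mem_centralizer_iff.1 h1 e he
  have hzlW : zl ∈ W l := h.ZW l hzl
  have inp : Chi.Inp B X (X ⊓ centralizer (K : Set G)) ⁅N, K⁆ ⁅N', K'⁆ (W l) K K' zl zo :=
    { ab := by
        intro x hx y hy
        obtain ⟨x1, hx1, x2, hx2, rfl⟩ := mem_sup_comm hFX hx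
        obtain ⟨y1, hy1, y2, hy2, rfl⟩ := mem_sup_comm hFX hy
        have c1 : Commute x1 y1 := hFF x1 hx1 y1 hy1
        have c2 : Commute x1 y2 := hFX x1 hx1 y2 hy2
        have c3 : Commute x2 y1 := (hFX y1 hy1 x2 hx2).symm
        have c4 : Commute x2 y2 := h.Xc hx2 hy2
        exact ((c1.mul_right c2).mul_left (c3.mul_right c4))
      le := (uni' h k k').1
      FX := (k.inf_X h).le
      FX' := (k'.inf_X h).le
      cF := k.W_le h
      cF' := k'.W_le h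
      dec := by
        intro x hx
        obtain ⟨w, hw, c, hc, hcK, rfl⟩ := k.splitX h hx
        exact mul_mem (mem_sup_left hw) (mem_sup_right (mem_inf.2 ⟨hc, mem_centralizer_iff.2 hcK⟩))
      XkX := inf_le_left
      cXk := by
        rw [eq_bot_iff]
        rintro x ⟨hx, -, hx2⟩
        rw [mem_bot]
        exact k.W_cen hx (mem_centralizer_iff.1 hx2)
      card := by rw [k.card16 h, k'.card16 h]
      pB := h.twoB
      FB := k.VB0.trans h.B0B
      nF := a.nF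
      nF' := a'.nF
      nXk := k.BX
      tr := k.tr h hzlW hzl1
      tr' := k'.tr h hzlW hzl1
      Kz := hcen k
      Kz' := hcen k'
      KX := fun e he x hx => mem_centralizer_iff.1 hx.2 e he
      zoX := mem_sup_right (h.ZJX hzoJ)
      no_shift := by
        intro x hx hxB g hg
        refine h.no_shift h.zJ h.zC (h.mem_ZJ_of hx.1 hxB) (g := g) ?_
        rw [ez]
        exact hg }
  exact inp.eq

/-- The family of blocks over all lines; `T` a subgroup of `S`, `P` a `T`-orbit. -/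
structure Fam (S T B B0 X M0 Y0 : Subgroup G) (P : ι → Prop) (W K N N1 N0 : ι → Subgroup G) : Prop where
  bk : ∀ i, BK B B0 X M0 Y0 W i (K i) (N i) (N1 i) (N0 i)
  na : ∀ i, NA B (K i) (N i)
  chi : ∀ s ∈ S, ∀ i j, ChoiceBase.cj s (W i) = W j → ChoiceBase.cj s ⁅N i, K i⁆ = ⁅N j, K j⁆
  conj : ∀ i j, P i → P j → ∃ s ∈ T, ChoiceBase.cj s (W i) = W j ∧ ChoiceBase.cj s (K i) = K j

/-- **The family.** -/
theorem exists_fam [Finite G] [Finite ι] (h : TK S B Q V Xn ZJ B0 X M0 Y0 L W Z C A z)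
    (k : BK B B0 X M0 Y0 W l K N N1 N0) (a : NA B K N) {T : Subgroup G} (hT : T ≤ S) {P : ι → Prop}
    (hP : ∀ i, P i → ∃ s ∈ T, ChoiceBase.cj s (W l) = W i) :
    ∃ K N N1 N0 : ι → Subgroup G, Fam S T B B0 X M0 Y0 P W K N N1 N0 := by
  have htr : ∀ i, ∃ s ∈ S, ChoiceBase.cj s (W l) = W i ∧ (P i → s ∈ T) := by
    intro i
    by_cases hi : P i
    · obtain ⟨s, hs, e⟩ := hP i hi
      exact ⟨s, hT hs, e, fun _ => hs⟩
    · obtain ⟨s, hs, e⟩ := h.tr l i
      exact ⟨s, hs, e, fun h' => absurd h' hi⟩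
  choose s hs e hsT using htr
  have hb : ∀ i, BK B B0 X M0 Y0 W i (ChoiceBase.cj (s i) K) (ChoiceBase.cj (s i) N) (ChoiceBase.cj (s i) N1)
      (ChoiceBase.cj (s i) N0) := fun i => BK.cj h k (hs i) (e i)
  have ha : ∀ i, NA B (ChoiceBase.cj (s i) K) (ChoiceBase.cj (s i) N) := fun i => a.cj (h.SB (hs i))
  refine ⟨fun i => ChoiceBase.cj (s i) K, fun i => ChoiceBase.cj (s i) N, fun i => ChoiceBase.cj (s i) N1,
    fun i => ChoiceBase.cj (s i) N0, hb, ha, fun t ht i j hij => ?_, fun i j hi hj => ?_⟩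
  · rw [← comm_cjj]
    exact BK.chi h (hb j) (ha j) (BK.cj h (hb i) ht hij) ((ha i).cj (h.SB ht))
  · refine ⟨s j * (s i)⁻¹, mul_mem (hsT j hj) (inv_mem (hsT i hi)), ?_, ?_⟩
    · rw [← e i, cj_cj, inv_mul_cancel_right, e j]
    · rw [cj_cj, inv_mul_cancel_right]

end Cfsg.Agent.Omega.OM.Lev.Low.TorusV

end
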