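import Cfsg.Agent.Mrg.Omega.OM.SwapV.Torus.InstV
import Cfsg.Agent.Mrg.Omega.OM.SwapV.Torus.LocV
import Cfsg.Agent.Mrg.Omega.NOThreeL.RRed.BFr.VSup
import Cfsg.Agent.Mrg.Omega.OM.SwapV.Torus.Uni
import Cfsg.Agent.Mrg.Omega.OM.LowV.Inst

section


/-!
# TORUS over an abstract module `V` (box R): the instance of `LocV` (662) from `LocL` (422), and `TK` from it.
-/

set_option autoImplicit false

namespace Cfsg.Agent.Omega.OM.SwapV.TorusV

open Subgroup Cfsg Cfsg.Agent.ZN.ChoiceBase Cfsg.Agent.ZN.ChoiceSit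
open Cfsg.Agent.ZN (zc o2)
open Cfsg.Agent.Omega.MinPar (IsParS)
open Cfsg.Agent.Omega.OM.SwapL (ZL BL lb)
open Cfsg.Agent.Omega.OM.SwapV.Lv (LnV)
open Cfsg.Agent.Omega.NO3S.Level (lev)
open Cfsg.Agent.Omega.NOThreeL.RTree (RB)
open Cfsg.Agent.Omega.OM.Lev.Low.TorusV (TK)
open Cfsg.Agent.Omega.OM.Lev.Low.TorusK (stM stY)

universe u

variable {G : Type u} [Group G] [Finite G] {ι : Type} [Finite ι] {S : Sylow 2 G} {V Q : Subgroup G} {n : ℕ}
  {L W Z C A : ι → Subgroup G}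

/-- The local inputs. -/
theorem locV_of (h : LnV S V Q n L W Z C A) (h3 : ∀ l m : ι, ∃ r, r ≠ l ∧ r ≠ m) (j : ℕ) :
    LocV (BL (S : Subgroup G) n) (ZL (S : Subgroup G) n) (LevB.BL (S : Subgroup G) j)
      (zc (lev (S : Subgroup G) j)) W Z C where
  wt := LocL.wt h
  cjC := fun _ hg _ _ e => LocL.C_cj h hg e
  syl := LocL.syl h
  loc1 := LocL.loc1 h fun l => by
    obtain ⟨r, hr, -⟩ := h3 l l
    exact ⟨r, hr⟩
  loc2 := fun l m hlm => by
    obtain ⟨E, h1, h2, h4, h5⟩ := LocL.loc2 h h3 l m hlm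
    exact ⟨E, h1, fun e he hc => mem_inf.2 ⟨h2 he, mem_centralizer_iff.2 fun x hx => (hc x hx).symm⟩, h4, h5⟩

/-- **The instance of `TK`**, local inputs discharged. -/
theorem tk_of' (R : RB S) (h : LnV S V Q n L W Z C A) (h3 : ∀ l m : ι, ∃ r, r ≠ l ∧ r ≠ m)
    (hall : ∀ P : Subgroup G, IsParS (S : Subgroup G) P → lev (S : Subgroup G) n ≤ o2 P)
    (tr : ∀ i j, ∃ g ∈ MB (S : Subgroup G) n, cj g (W i) = W j) {j : ℕ} (hj : j ≤ n) {z : G}
    (hz : z ∈ ZL (S : Subgroup G) n) (hzC : ∀ i, z ∉ C i) :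
    TK (MB (S : Subgroup G) n) (BL (S : Subgroup G) n) Q V (zc (lev (S : Subgroup G) n))
      (ZL (S : Subgroup G) n) (LevB.BL (S : Subgroup G) j) (zc (lev (S : Subgroup G) j)) (stM (S : Subgroup G) j)
      (stY (S : Subgroup G) j) L W Z C A z :=
  tk_of R h hall tr hj hz hzC (locV_of h h3 j)

end Cfsg.Agent.Omega.OM.SwapV.TorusV

end

section


/-!
# NO-3L, box R: light pairs with a common letter (the socket `LL.NoCross`, helper400)

* `bz_of` : `LowV.Cross.BZ` from 646's `LowV.Blk`;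
* **`noCross : LL.NoCross`**.
-/

set_option autoImplicit false
set_option linter.unusedSectionVars false

namespace Cfsg.Agent.Omega.NOThreeL.RRed.BFr.NoCross

open Subgroup Cfsg Cfsg.Agent.Omega.MinPar Cfsg.Agent.ZN.ChoiceBase Cfsg.Agent.ZN.ChoiceSit
open Cfsg.Agent.ZN (zc zl o2 zj bau jj)
open Cfsg.Agent.MinSimple.MinParabolic (IsMinPar)
open Cfsg.Agent.Omega.NO3S.Level (lev lev_mono lev_isLev lev_le)
open Cfsg.Agent.Omega.OM.SwapL (ZL BL lb)
open Cfsg.Agent.Omega.OM.SwapV.Lv (LnV)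
open Cfsg.Agent.Omega.OM.Lev.Low (TorusK.stM TorusK.stY)
open Cfsg.Agent.Omega.OM.LowV (Blk R_norm zl_le_lev)
open Cfsg.Agent.Omega.OM.LowV.Cross (BZ Gd)
open Cfsg.Agent.Omega.FrameFF (cv)
open Cfsg.Agent.Omega.NOThreeL.RTree (RB)
open Cfsg.Agent.Omega.NOThreeL.Merge (MZ)

universe u

variable {G : Type u} [Group G] [Finite G] {ι : Type} {S : Sylow 2 G} {V Q : Subgroup G} {n : ℕ}
  {L W Z C A : ι → Subgroup G} {R : Subgroup G} {j : ℕ} {K N₁ c : Subgroup G} {τ : G} {l : ι}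

/-- **The instance of `BZ`.** -/
theorem bz_of (h : Blk S V Q n L W Z C A R j K N₁ c τ l) :
    BZ (BL (S : Subgroup G) n) (OM.LevB.BL (S : Subgroup G) j) (zc (lev (S : Subgroup G) j))
      (TorusK.stM (S : Subgroup G) j) (TorusK.stY (S : Subgroup G) j) W Z l K (zl (BL (S : Subgroup G) n) R) N₁
      (cv (BL (S : Subgroup G) n) R) where
  pb := h.pb
  NY := by
    cases j with
    | zero => exact le_top
    | succ m => exact zl_le_lev h (Nat.lt_succ_self m)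
  KM := by
    cases j with
    | zero => exact le_top
    | succ m => exact h.KR.trans (R_norm h (Nat.lt_succ_self m))
  WN := h.cW ▸ h.cN1
  WN0 := h.cW ▸ h.cD
  cZ := fun p hp w hw k hk => mem_centralizer_iff.1 (h.ZK p hp hw) k hk
  BX := fun b hb => mem_normalizer_iff_cj.2 (h.fix b hb).1
  tor := by
    refine ⟨τ, h.τK, h.τB0, fun w hw => ?_, fun w hw => h.τ1 w (h.cW ▸ hw)⟩
    rw [← h.cW] at hw ⊢
    have h1 : τ * w * τ⁻¹ ∈ cj τ c := ⟨w, hw, rfl⟩
    rwa [h.τc] at h1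
  cc := h.cW ▸ h.cc

/-- **`NoCross`.** -/
theorem noCross : LL.NoCross.{u} := by
  intro G _ _ ι _ S V Q n L W Z C A RS hall h h3 hL hM hx R hP hT hc hn hZ
  have hne : Nonempty ι := by
    by_contra hcon
    rw [not_nonempty_iff] at hcon
    apply hZ
    have h1 : zc (BL (S : Subgroup G) n) ≤ ⊥ := by
      rw [h.fr.zcB]
      intro z hz
      rw [mem_bot]
      exact h.fr.C0 z (h.fr.ZJV hz) fun i => (hcon.false i).elim
    intro y _
    rw [mem_centralizer_iff]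
    intro z hz
    rw [mem_bot.1 (h1 hz)]
    group
  obtain ⟨j, K, N₁, c, τ, l, hB, -⟩ := OM.LowV.exists_blk h (fun i => by
    obtain ⟨r, hr, -⟩ := h3 i i
    exact ⟨r, hr⟩) hP hT hc hn hZ
  obtain ⟨z, hz, hzC, -, -⟩ := OM.SwapV.TorusV.LocL.exists_z h
  have hj := hB.jn
  have hk := OM.SwapV.TorusV.tk_of' RS h h3 hall (fun i k => by
    obtain ⟨g, h1, h2, h4⟩ := hM i k
    exact ⟨g, mem_inf.2 ⟨h1, h2⟩, h4⟩) hj hz hzC
  have hb := bz_of hB
  obtain ⟨m, hm, g, hg, hgz, hgW⟩ := hx l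
  apply hgW
  -- `g` normalises the levels
  have hQS : Q ≤ (S : Subgroup G) := h.fr.QB.trans (lb S n).BS
  have hlev : ∀ i, i ≤ n → g ∈ normalizer (lev (S : Subgroup G) i : Set G) := fun i hi =>
    (lev_isLev (S : Subgroup G) i).norm Q ((lev_mono _ hi).trans h.levQ) hQS hg
  have hX : cj g (zc (lev (S : Subgroup G) j)) = zc (lev (S : Subgroup G) j) :=
    cj_eq_of_mem_normalizer (NO3S.Level.normalizer_le_zc _ (hlev j hj))
  have hB0 : OM.LevB.BL (S : Subgroup G) j = Q ⊓ centralizer (zc (lev (S : Subgroup G) j) : Set G) := by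
    refine le_antisymm (le_inf ?_ inf_le_right) (inf_le_inf_right _ hQS)
    rw [TrCross.Q_eq h]
    exact le_inf hk.B0B (inf_le_right.trans (centralizer_le hk.VX))
  refine hb.cjW hk ⟨?_, ?_, m, hm, hgz⟩
  · rw [mem_normalizer_iff_cj, hB0, cj_inf, cj_centralizer, hX, cj_eq_of_mem_normalizer hg]
  · cases j with
    | zero => exact mem_top _
    | succ i => exact hlev i (by omega)

end Cfsg.Agent.Omega.NOThreeL.RRed.BFr.NoCross

end

section


/-!
# TORUS over `LnV` (box R): `TorusV.TK` from `LnV` (helper662, over helper422's `LocPlugV.lean`)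

**`tkV_of`** = `tk_of'`.
-/

set_option autoImplicit false
set_option linter.unusedSectionVars false

namespace Cfsg.Agent.Omega.OM.SwapV.TorusV

open Subgroup Cfsg Cfsg.Agent.Omega.MinPar Cfsg.Agent.ZN.ChoiceBase Cfsg.Agent.ZN.ChoiceSit
open Cfsg.Agent.ZN (jj zj bau zc zl o2)
open Cfsg.Agent.Omega.NO3S.Level (lev lev_mono lev_isLev Lev lev_le)
open Cfsg.Agent.Omega.OM.SwapL (ZL BL lb)
open Cfsg.Agent.Omega.OM.SwapV.Lv (LnV)
open Cfsg.Agent.Omega.OM.Lev.Low.TorusK (stM stY)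
open Cfsg.Agent.Omega.OM.Lev.Low.TorusV (TK)
open Cfsg.Agent.Omega.NOThreeL.RTree (RB)

universe u

variable {G : Type u} [Group G] [Finite G] {S : Sylow 2 G} {n : ℕ} {ι : Type} [Finite ι] {V Q : Subgroup G}
  {L W Z C A : ι → Subgroup G}

/-- **The instance of `TK`.** -/
theorem tkV_of (R : RB S) (h : LnV S V Q n L W Z C A) (h3 : ∀ l m : ι, ∃ r, r ≠ l ∧ r ≠ m)
    (hall : ∀ P : Subgroup G, IsParS (S : Subgroup G) P → lev (S : Subgroup G) n ≤ o2 P)
    (tr : ∀ i j, ∃ g ∈ MB (S : Subgroup G) n, cj g (W i) = W j) {j : ℕ} (hj : j ≤ n) {z : G}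
    (hz : z ∈ ZL (S : Subgroup G) n) (hzC : ∀ i, z ∉ C i) :
    TK (MB (S : Subgroup G) n) (BL (S : Subgroup G) n) Q V (zc (lev (S : Subgroup G) n))
      (ZL (S : Subgroup G) n) (LevB.BL (S : Subgroup G) j) (zc (lev (S : Subgroup G) j)) (stM (S : Subgroup G) j)
      (stY (S : Subgroup G) j) L W Z C A z :=
  tk_of' R h h3 hall tr hj hz hzC

end Cfsg.Agent.Omega.OM.SwapV.TorusV

end
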