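import Cfsg.Agent.Mrg.Omega.OM.Lev.Low.TorusK.Inst
import Cfsg.Agent.Mrg.Omega.OM.SwapV.LowZ
import Cfsg.Agent.Mrg.Omega.NOThreeL.RTree


/-!
# TORUS over `LnV` (box R): `M₀ = ⟨P*(S)⟩` normalises the levels `≤ n` (helper662)

`hall` : `lev S n ≤ O₂(P)` for all `P ∈ P*(S)`.

* `norm_lev`, `norm_zc`, `norm_BL` : `MZ S` normalises `lev S m`, `X_m = Ω₁Z(lev S m)`, `B_m = C_S(X_m)` for `m ≤ n`;
* `MB S n = MZ S ⊓ N(B)`, `B = C_S(Ω₁Z(lev S (n+1)))`;
* `cQ` : `C_(X_j)(Q) ≤ V`, `j ≤ n`.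
-/

set_option autoImplicit false
set_option linter.unusedSectionVars false

namespace Cfsg.Agent.Omega.OM.SwapV.TorusV

open Subgroup Cfsg Cfsg.Agent.Omega.MinPar Cfsg.Agent.ZN.ChoiceBase Cfsg.Agent.ZN.ChoiceSit
open Cfsg.Agent.ZN (jj zj bau zc zl o2)
open Cfsg.Agent.Omega.NO3S.Level (lev lev_mono lev_isLev Lev lev_le)
open Cfsg.Agent.Omega.OM.SwapL (ZL BL)
open Cfsg.Agent.Omega.OM.SwapV.Lv (LnV)
open Cfsg.Agent.Omega.NOThreeL.Merge (MZ le_MZ S_le_MZ)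
open Cfsg.Agent.Omega.OM.Lev.Low.SetS (S_norm_lev S_norm_zc S_norm_BL)

universe u

variable {G : Type u} [Group G] [Finite G] {S : Sylow 2 G} {n : ℕ}

/-- `M₀` normalises `lev S m`, `m ≤ n`. -/
theorem norm_lev (hall : ∀ P : Subgroup G, IsParS (S : Subgroup G) P → lev (S : Subgroup G) n ≤ o2 P) {m : ℕ}
    (hm : m ≤ n) : MZ (S : Subgroup G) ≤ normalizer (lev (S : Subgroup G) m : Set G) :=
  sSup_le fun P hP => (lev_isLev (S : Subgroup G) m).le_norm_of_o2 ((lev_mono _ hm).trans (hall P hP))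
    (IsLoc.o2_le S (IsParS.isLoc hP))

/-- `M₀` normalises `X_m`, `m ≤ n`. -/
theorem norm_zc (hall : ∀ P : Subgroup G, IsParS (S : Subgroup G) P → lev (S : Subgroup G) n ≤ o2 P) {m : ℕ}
    (hm : m ≤ n) : MZ (S : Subgroup G) ≤ normalizer (zc (lev (S : Subgroup G) m) : Set G) :=
  (norm_lev hall hm).trans (NO3S.Level.normalizer_le_zc _)

/-- `M₀` normalises `C_S(X_m)`, `m ≤ n`. -/
theorem norm_BL (hG : IsCharacteristicTwoType G)
    (hall : ∀ P : Subgroup G, IsParS (S : Subgroup G) P → lev (S : Subgroup G) n ≤ o2 P) {m : ℕ}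
    (hm : m ≤ n) : MZ (S : Subgroup G) ≤ normalizer (LevB.BL (S : Subgroup G) m : Set G) := by
  refine sSup_le fun P hP => ?_
  have hP' : IsParS (S : Subgroup G) P := hP
  have h1 : P ≤ normalizer (zc (lev (S : Subgroup G) m) : Set G) := (le_MZ hP).trans (norm_zc hall hm)
  have h2 : zl (S : Subgroup G) P ≤ zc (lev (S : Subgroup G) m) :=
    MinSimple.VModule.zl_le (lev_isLev (S : Subgroup G) m).zc_le h1
  have h3 : LevB.BL (S : Subgroup G) m = o2 P ⊓ centralizer (zc (lev (S : Subgroup G) m) : Set G) := by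
    rw [← hP'.inf_centralizer S hG, LevB.BL, inf_assoc, inf_eq_right.2 (centralizer_le h2)]
  intro g hg
  rw [mem_normalizer_iff_cj, h3, cj_inf, cj_centralizer, cj_eq_of_mem_normalizer (h1 hg),
    cj_eq_of_mem_normalizer (MinSimple.VModule.le_normalizer_o2 P hg)]

/-- the group which replaces `S` in the transitivity -/
def MB (S : Subgroup G) (n : ℕ) : Subgroup G := MZ S ⊓ normalizer (BL S n : Set G)

/-- `C_(X_j)(Q) ≤ V` -/
theorem cQ {ι : Type} {V Q : Subgroup G} {L W Z C A : ι → Subgroup G} (h : LnV S V Q n L W Z C A) {j : ℕ}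
    (hj : j ≤ n) {x : G} (hx : x ∈ zc (lev (S : Subgroup G) j)) (hc : ∀ y ∈ Q, y * x = x * y) : x ∈ V := by
  obtain ⟨h1, h2, -⟩ := mem_zc.1 hx
  have h3 : x ∈ lev (S : Subgroup G) n := lev_mono _ hj h1
  exact h.fr.zcQ x (h.levQ h3) h2 fun y hy => (hc y hy).symm

end Cfsg.Agent.Omega.OM.SwapV.TorusV
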