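import Cfsg.Agent.Mrg.Omega.OM.SwapV.Torus.LocV
import Cfsg.Agent.Mrg.Omega.OM.SwapV.Torus.Uni
import Cfsg.Agent.Mrg.Omega.OM.SwapV.Torus.Theta
import Cfsg.Agent.Mrg.Omega.OM.Lev.Low.TorusK.Uni


/-!
# TORUS over an abstract module (box R): the last page over one orbit of the Sylow group

`S` = the group `M` of the frame (transitive on the lines), `T ≤ S` a 2-group `≥ B` (the Sylow group of `G`), `P` one
`T`-orbit on the lines, `x ∈ Z_J` with support `P`; `fact` for `x`.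

* `exists_supp` : an element with a given support;
* `false_orb` : **contradiction** for one torus block.
-/

set_option autoImplicit false
set_option linter.unusedSectionVars false
set_option linter.unusedVariables false

namespace Cfsg.Agent.Omega.OM.Lev.Low.TorusV

open Subgroup Cfsg Cfsg.Agent.ZN Cfsg.Agent.ZN.ChoiceBase Cfsg.Agent.Omega.OM.Lev.Low.TorusK
open Cfsg.Agent.Omega.OM.Lev.Low.TorusK.PBC
open scoped commutatorElement

universe u

variable {G : Type u} [Group G]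

variable {ι : Type} {S B Q V Xn ZJ B0 X M0 Y0 : Subgroup G} {L W Z C A : ι → Subgroup G} {z : G}

theorem W_inj (h : TK S B Q V Xn ZJ B0 X M0 Y0 L W Z C A z) {i j : ι} (e : W i = W j) : i = j := by
  by_contra hne
  have h2 := h.fr.WjC i j hne
  rw [← e] at h2
  have h3 : W i ≤ W i ⊓ C i := le_inf le_rfl h2
  rw [h.fr.dir i] at h3
  have h4 := h.cardW i
  rw [eq_bot_iff.2 h3, Subgroup.card_bot] at h4
  omega

theorem not_mem_C (h : TK S B Q V Xn ZJ B0 X M0 Y0 L W Z C A z) {i : ι} {x : G} (hx : x ∈ Z i) (h1 : x ≠ 1) :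
    x ∉ C i := by
  intro hc
  have h2 : x ∈ W i ⊓ C i := mem_inf.2 ⟨h.ZW i hx, hc⟩
  rw [h.fr.dir i, mem_bot] at h2
  exact h1 h2

/-- **An element of `Z_J` with support `P`.** -/
theorem exists_supp [Finite ι] (h : TK S B Q V Xn ZJ B0 X M0 Y0 L W Z C A z) (P : ι → Prop) :
    ∃ x ∈ ZJ, x ∈ (⨆ (i) (_ : P i), W i) ∧ ∀ i, x ∉ C i ↔ P i := by
  classical
  have : Fintype ι := Fintype.ofFinite ι
  have key : ∀ s : Finset ι, (∀ i ∈ s, P i) → ∃ x ∈ ZJ, x ∈ (⨆ (i) (_ : P i), W i) ∧ ∀ i, x ∉ C i ↔ i ∈ s := by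
    intro s
    induction s using Finset.induction_on with
    | empty =>
      intro _
      exact ⟨1, one_mem _, one_mem _, fun i => ⟨fun h' => absurd (one_mem _) h', fun h' => absurd h' (Finset.notMem_empty i)⟩⟩
    | insert a s ha ih =>
      intro hs
      obtain ⟨x, hx, hxW, hxs⟩ := ih fun i hi => hs i (Finset.mem_insert_of_mem hi)
      obtain ⟨y, hy, hy1⟩ := h.exists_Z a
      have hPa := hs a (Finset.mem_insert_self a s)
      have hyW : y ∈ (⨆ (i) (_ : P i), W i) := (le_iSup₂ (f := fun (i : ι) (_ : P i) => W i) a hPa) (h.ZW a hy)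
      refine ⟨y * x, mul_mem (h.fr.Z_le a hy) hx, mul_mem hyW hxW, fun i => ?_⟩
      by_cases hi : i = a
      · subst hi
        have hxC : x ∈ C i := by
          by_contra hc
          exact ha ((hxs i).1 hc)
        constructor
        · intro _
          exact Finset.mem_insert_self i s
        · intro _ hc
          have h1 := mul_mem hc (inv_mem hxC)
          rw [mul_inv_cancel_right] at h1
          exact not_mem_C h hy hy1 h1
      · have hyC : y ∈ C i := h.fr.WjC i a hi (h.ZW a hy)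
        have h1 : y * x ∈ C i ↔ x ∈ C i := by
          constructor
          · intro hc
            have h2 := mul_mem (inv_mem hyC) hc
            rwa [inv_mul_cancel_left] at h2
          · intro hc
            exact mul_mem hyC hc
        rw [h1, hxs i, Finset.mem_insert]
        exact ⟨fun h2 => Or.inr h2, fun h2 => h2.resolve_left hi⟩
  obtain ⟨x, hx, hxW, hxs⟩ := key (Finset.univ.filter P) fun i hi => (Finset.mem_filter.1 hi).2
  exact ⟨x, hx, hxW, fun i => by rw [hxs i]; simp⟩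

/-- An element of `Z_J` is determined by its support. -/
theorem eq_of_supp (h : TK S B Q V Xn ZJ B0 X M0 Y0 L W Z C A z) {x y : G} (hx : x ∈ ZJ) (hy : y ∈ ZJ)
    (hs : ∀ i, x ∈ C i ↔ y ∈ C i) : x = y := by
  have hxV := h.fr.ZJV hx
  have hyV := h.fr.ZJV hy
  have h1 : x * y⁻¹ = 1 := by
    refine h.fr.C0 _ (mul_mem hxV (inv_mem hyV)) fun i => ?_
    by_cases hxi : x ∈ C i
    · exact mul_mem hxi (inv_mem ((hs i).1 hxi))
    have hyi : y ∉ C i := fun hc => hxi ((hs i).2 hc)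
    obtain ⟨w, hw, c, hc, -, e⟩ := h.fr.split_ZJ i hx
    obtain ⟨w', hw', c', hc', -, e'⟩ := h.fr.split_ZJ i hy
    have hw1 : w ≠ 1 := by
      rintro rfl
      exact hxi (by rw [e, one_mul]; exact hc)
    have hw1' : w' ≠ 1 := by
      rintro rfl
      exact hyi (by rw [e', one_mul]; exact hc')
    have e1 : w = w' := h.Z_two i hw hw' hw1 hw1'
    rw [e, e', ← e1]
    have e2 : w * c * (w * c')⁻¹ = c * c'⁻¹ := by
      have c1 : Commute w c := h.fr.Vc (h.fr.ZV i hw) (h.fr.CV i hc)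
      have c2 : Commute w c'⁻¹ := h.fr.Vc (h.fr.ZV i hw) (inv_mem (h.fr.CV i hc'))
      calc w * c * (w * c')⁻¹ = c * w * (w * c')⁻¹ := by rw [c1.eq]
        _ = c * (w * c'⁻¹) * w⁻¹ := by group
        _ = c * (c'⁻¹ * w) * w⁻¹ := by rw [c2.eq]
        _ = c * c'⁻¹ := by group
    rw [e2]
    exact mul_mem hc (inv_mem hc')
  exact mul_inv_eq_one.1 h1

/-- `s ∈ S` which preserves the support of `x` centralises `x`. -/
theorem cent_of_supp (h : TK S B Q V Xn ZJ B0 X M0 Y0 L W Z C A z) {x : G} (hx : x ∈ ZJ) {P : ι → Prop}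
    (hP : ∀ i, x ∉ C i ↔ P i) {s : G} (hs : s ∈ S) (hZ : s * x * s⁻¹ ∈ ZJ)
    (hsP : ∀ i j, cj s (W i) = W j → (P i ↔ P j)) : s * x = x * s := by
  have h1 : s * x * s⁻¹ = x := by
    refine eq_of_supp h hZ hx fun j => ?_
    obtain ⟨i, e1, -, e3⟩ := h.perm s⁻¹ (inv_mem hs) j
    have e1' : cj s (W i) = W j := by rw [← e1, cj_cj, mul_inv_cancel, cj_one]
    have e4 : s * x * s⁻¹ ∈ C j ↔ x ∈ C i := by
      rw [← e3, mem_cj']
      simp [mul_assoc]
    rw [e4]
    have h2 := hP i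
    have h3 := hP j
    have h4 := hsP i j e1'
    tauto
  exact mul_inv_eq_iff_eq_mul.1 h1

/-- `z_l`: the elements of `S` which normalise `W l` centralise `Z l`. -/
theorem fx (h : TK S B Q V Xn ZJ B0 X M0 Y0 L W Z C A z) (i0 : ι) :
    ∃ x ∈ W i0, x ≠ 1 ∧ ∀ s ∈ S, s ∈ normalizer (W i0 : Set G) → s * x = x * s := by
  obtain ⟨x, hx, hx1⟩ := h.exists_Z i0
  refine ⟨x, h.ZW i0 hx, hx1, fun s hs hsW => ?_⟩
  obtain ⟨j, e1, e2, -⟩ := h.perm s hs i0
  rw [mem_normalizer_iff_cj.1 hsW] at e1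
  have e3 := W_inj h e1
  rw [← e3] at e2
  have h3 : s * x * s⁻¹ ∈ Z i0 := by
    have : s * x * s⁻¹ ∈ cj s (Z i0) := ⟨x, hx, rfl⟩
    rwa [e2] at this
  have h4 : s * x * s⁻¹ ≠ 1 := by
    intro e
    apply hx1
    calc x = s⁻¹ * (s * x * s⁻¹) * s := by group
      _ = 1 := by rw [e]; group
  exact mul_inv_eq_iff_eq_mul.1 (h.Z_two i0 h3 hx h4 hx1)

theorem B_norm_W [Finite G] (h : TK S B Q V Xn ZJ B0 X M0 Y0 L W Z C A z) (i0 : ι) : B ≤ normalizer (W i0 : Set G) := by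
  intro b hb
  refine mem_normalizer_of_cj_le ?_
  rintro _ ⟨w, hw, rfl⟩
  exact (h.fr.blk i0).nV b ((h.fr.blk i0).BL hb) w hw

theorem S_norm_ZJ [Finite G] (h : TK S B Q V Xn ZJ B0 X M0 Y0 L W Z C A z) {s : G} (hs : s ∈ S) {x : G} (hx : x ∈ ZJ) :
    s * x * s⁻¹ ∈ ZJ := by
  have h3 : ChoiceBase.cj s ZJ = ZJ := by
    rw [← h.fr.zcB, ← zc_cj', cj_eq_of_mem_normalizer (h.SB hs)]
  rw [← h3]
  exact ⟨x, hx, rfl⟩

theorem syl_of [Finite G] (h : TK S B Q V Xn ZJ B0 X M0 Y0 L W Z C A z) {i0 : ι} {K N N1 N0 : Subgroup G}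
    (k : BK B B0 X M0 Y0 W i0 K N N1 N0) : ∀ s ∈ S, s ∈ normalizer (W i0 : Set G) → ∀ T : Subgroup G, IsPGroup 2 T →
      B ≤ T → T ≤ K ⊔ cj s K ⊔ B → T ≤ B := by
  intro s hs hsW T hT hBT hle
  refine h.syl i0 T hT hBT fun p hp => hle.trans ?_
  have k' := BK.cj h k hs (mem_normalizer_iff_cj.1 hsW)
  refine sup_le (sup_le ?_ ?_) ?_
  · exact fun x hx => mem_centralizer_iff.2 fun w hw => (k.cW p hp w (h.ZW p hw) x hx).symm
  · exact fun x hx => mem_centralizer_iff.2 fun w hw => (k'.cW p hp w (h.ZW p hw) x hx).symm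
  · exact fun x hx => mem_centralizer_iff.2 fun w hw => (((h.fr.mem_ZJ w).1 (h.fr.Z_le p hw)).2 x hx).symm

/-- **The last page over one orbit of the 2-group `T`.** -/
theorem false_orb [Finite G] [Finite ι] (h : TK S B Q V Xn ZJ B0 X M0 Y0 L W Z C A z) {T : Subgroup G}
    (hT : IsPGroup 2 T) (hBT : B ≤ T) (hTS : T ≤ S) {l : ι} {K N N1 N0 : Subgroup G}
    (k : BK B B0 X M0 Y0 W l K N N1 N0) (a : NA B K N)
    (fact : ∀ x ∈ ZJ, x ≠ 1 → (∀ s ∈ T, s * x = x * s) → ∀ H : Subgroup G, T ≤ H →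
      (∃ U : Subgroup G, U ≠ ⊥ ∧ IsPGroup 2 U ∧ H ≤ normalizer (U : Set G)) →
        H ≤ (H ⊓ normalizer (X : Set G)) ⊔ (H ⊓ centralizer ({x} : Set G))) : False := by
  classical
  set P : ι → Prop := fun i => ∃ s ∈ T, cj s (W l) = W i with hP
  have hPl : P l := ⟨1, one_mem _, cj_one _⟩
  have hsP : ∀ s ∈ T, ∀ i j, cj s (W i) = W j → (P i ↔ P j) := by
    intro s hs i j e
    constructor
    · rintro ⟨t, ht, e'⟩
      exact ⟨s * t, mul_mem hs ht, by rw [← cj_cj, e', e]⟩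
    · rintro ⟨t, ht, e'⟩
      exact ⟨s⁻¹ * t, mul_mem (inv_mem hs) ht, by rw [← cj_cj, e', ← e, cj_inv_cj]⟩
  obtain ⟨K', N', N1', N0', f⟩ := exists_fam h k a hTS (P := P) (fun i hi => hi)
  obtain ⟨x, hx, hxW, hxP⟩ := exists_supp h P
  have hx1 : x ≠ 1 := by
    rintro rfl
    exact (hxP l).2 hPl (one_mem _)
  have hxc : ∀ s ∈ T, s * x = x * s := fun s hs =>
    cent_of_supp h hx hxP (hTS hs) (S_norm_ZJ h (hTS hs) hx) (hsP s hs)
  have td : TD S B Q V Xn ZJ B0 X M0 Y0 L W Z C A z K' N' N1' N0' :=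
    { tk := h
      bk := f.bk
      loc := Loc.fam_norm h f.bk
      comm := fun i j _ u hu v hv => Loc.fam_comm h f.bk i j hu hv }
  choose R hRK hKR hKRB hRF using td.theta
  have D : TorusK.EndD.Dt T B B0 X (fun m : {i // P i} => K' m.1) (fun m : {i // P i} => ⁅N' m.1, K' m.1⁆)
      (fun m : {i // P i} => W m.1) (fun m : {i // P i} => R m.1) ⟨l, hPl⟩ x :=
    { two := hT
      BS := hBT
      B0B := h.B0B
      SB := hTS.trans h.SB
      SB0 := hTS.trans h.SB0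
      n4 := fun m => (f.bk m.1).n4 h
      FX := fun m => (f.bk m.1).inf_X h
      FB0 := fun m => (f.bk m.1).VB0
      perm := fun s hs i => by
        obtain ⟨j, e, -, -⟩ := h.perm s (hTS hs) i.1
        exact ⟨⟨j, (hsP s hs i.1 j e).1 i.2⟩, e, f.chi s (hTS hs) i.1 j e⟩
      tr := fun m => by
        obtain ⟨s, hs, e1, e2⟩ := f.conj l m.1 hPl m.2
        exact ⟨s, hs, e2, e1⟩
      RK := fun m => hRK m.1
      KR := fun m => hKR m.1
      KRB := fun m => hKRB m.1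
      RF := fun m p hp r hr f hf => (mem_centralizer_iff.1 (hRF m.1 p.1 (fun e => hp (Subtype.ext e)) hr) f hf).symm
      BW := B_norm_W h l
      BL := na_lines h (f.bk l) (f.na l)
      fx := by
        obtain ⟨y, hy, hy1, hc⟩ := fx h l
        exact ⟨y, hy, hy1, fun s hs hsW => hc s (hTS hs) hsW⟩
      mv := by
        obtain ⟨t, ht, -, w, hw, hne⟩ := h.exists_t l
        exact ⟨t, ht, w, hw, hne⟩
      syl := fun s hs hsW => syl_of h (f.bk l) s (hTS hs) hsW
      zW := by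
        rw [iSup_subtype']  at hxW
        exact hxW
      zn0 := fun i hi => (hxP i.1).2 i.2
        ((iSup₂_le fun p hp => h.fr.WjC i.1 p.1 (fun e => hp (Subtype.ext e.symm)) :
          (⨆ (p : {i // P i}) (_ : p ≠ i), W p.1) ≤ C i.1) hi)
      fact := fact x hx hx1 hxc }
  exact D.false

end Cfsg.Agent.Omega.OM.Lev.Low.TorusV
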